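import Cfsg.Agent.Lib.MonsterType.TH.Checks
import Cfsg.Agent.Lib.MonsterType.OddType.BlockGroups
import Cfsg.Agent.Lib.Golay.ClassCount

/-!
The centraliser of the element of order 3 acts on nine blocks as the alternating group.
-/

set_option autoImplicit false

namespace Cfsg.Agent.Lib.MonsterType.TH

open Cfsg
open Cfsg.Agent.Lib
open Cfsg.Agent.Lib.Leech
open Cfsg.Agent.Lib.MonsterType.OddType

theorem sigma_eq : Data.sigmaList = Golay.ClassData.rep3f0 := by decide +kernel

theorem card_centM24 : Nat.card (Golay.Classes.centM24 spec.sl) = 504 := by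
  rw [show spec.sl = Golay.ClassData.rep3f0 from sigma_eq, Golay.Classes.card_centM24 Golay.Classes.cent3f0_ok]
  decide +kernel

theorem prm_even : ∀ i, Equiv.Perm.sign (prm i) = 1 := by
  decide +kernel

set_option maxHeartbeats 4000000 in
theorem words_spec : ∀ k : Fin 7, wordPerm k.val = AltAut.cyc (0 : Fin 9) 1 ⟨k.val + 2, by omega⟩ := by
  decide +kernel

theorem prm_gen : Subgroup.closure (Set.range prm) = alternatingGroup (Fin 9) := by
  refine le_antisymm ((Subgroup.closure_le _).2 ?_) ?_
  · rintro _ ⟨i, rfl⟩; exact Equiv.Perm.mem_alternatingGroup.2 (prm_even i)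
  refine alternating_le_of_cyc (show (0 : Fin 9) ≠ 1 by decide) _ fun w h0 h1 => ?_
  have e := words_spec ⟨w.val - 2, by omega⟩
  have h2 : 2 ≤ w.val := by
    have a0 : w.val ≠ 0 := fun r => h0 (Fin.ext r)
    have a1 : w.val ≠ 1 := fun r => h1 (Fin.ext r)
    omega
  rw [show (⟨w.val - 2 + 2, by omega⟩ : Fin 9) = w from Fin.ext (by simp only; omega)] at e
  rw [← e]
  exact Subgroup.list_prod_mem _ fun x hx => by
    obtain ⟨a, -, rfl⟩ := List.mem_map.1 hx
    exact Subgroup.subset_closure ⟨_, rfl⟩

/-- The generators. -/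
noncomputable def gen : Fin 3 → Spec.cen spec_ok :=
  ![Spec.matC spec_ok gM_ok, Spec.permC spec_ok t_ok.1 t_ok.2.1,
    Spec.wordC spec_ok (codeChk_iff w_ok.1) w_ok.2]

theorem gen_act : ∀ i k, Spec.act spec_ok (gen i) (Pi.single k 1) = mat i k := by
  intro i k
  obtain ⟨h0, h1, h2⟩ := mat_ok k
  fin_cases i
  · exact (Spec.act_matC spec_ok gM_ok k).trans h0
  · exact (Spec.act_permC spec_ok t_ok.1 t_ok.2.1 t_ok.2.2 k).trans h1
  · exact (Spec.act_wordC spec_ok (codeChk_iff w_ok.1) w_ok.2 k).trans h2

/-- The block action. -/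
noncomputable def blocks : Blocks spec spec_ok (Fin 9) 3 (alternatingGroup (Fin 9)) where
  omega := classSet Data.omega
  blk := blk
  gen := gen
  mat := mat
  prm := prm
  gen_act := gen_act
  blk_inj := blk_inj
  prm_spec := prm_ok
  prm_gen := prm_gen
  short := fun s hs => ⟨shortV s, short_ok s hs⟩
  words := words_ok
  bound := by
    rw [card_centM24, card_alt_nine, show spec.p = 3 from rfl]
    exact (Nat.mul_le_mul_right _ omega_card).trans (by norm_num)

end Cfsg.Agent.Lib.MonsterType.TH
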