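import Cfsg.Agent.Lib.MonsterType.TH.Data
import Cfsg.Agent.Lib.MonsterType.OddType.Gens

/-!
The checks of the certificate data.
-/

set_option autoImplicit false

namespace Cfsg.Agent.Lib.MonsterType.TH

open Cfsg
open Cfsg.Agent.Lib
open Cfsg.Agent.Lib.Leech
open Cfsg.Agent.Lib.MonsterType.OddType

/-- The data of the element. -/
def spec : Spec := ⟨3, Data.sigmaList, Data.orbT, Data.probes, Data.basis⟩

set_option maxHeartbeats 4000000 in
theorem spec_ok : spec.Ok where
  prime := by norm_num [spec]
  ne_two := by norm_num [spec]
  inM := by decide +kernel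
  orb_sF := by decide +kernel
  period := by decide +kernel
  moves := by decide +kernel
  conn := by
    show ∀ x y, spec.orb x = spec.orb y → ∃ i : Fin 3, spec.sF^[i.val] x = y
    decide +kernel
  leech := by decide +kernel
  dual := by decide +kernel
  span := ⟨by decide +kernel, by decide +kernel, by decide +kernel, by decide +kernel⟩

/-- The matrix. -/
def gM : GolayPt → GolayPt → ℤ := rowsM Data.gRows

set_option maxHeartbeats 4000000 in
theorem gM_ok : Spec.MatGen spec gM where
  ok := by simp only [matOk]; decide +kernel
  okT := by simp only [matOk]; decide +kernel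
  orth := by decide +kernel
  orth' := by decide +kernel
  comm := by decide +kernel

theorem t_ok : Golay.inM24 Data.tList = true ∧
    (∀ x, Golay.listFun Data.tList (spec.sF x) = spec.sF (Golay.listFun Data.tList x)) ∧
    ∀ x, Golay.listFun Data.tList (Golay.listFun Data.tInv x) = x := by
  decide +kernel

theorem w_ok : codeChk (maskW Data.wMask) = true ∧
    ∀ x, maskW Data.wMask (spec.sF x) = maskW Data.wMask x := by
  decide +kernel

/-- The matrices of the generators. -/
def mat (i : Fin 3) (k : Fin 8) : Fin 8 → ZMod 2 := ofBits ((Data.mats.getD i.val []).getD k.val 0)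

set_option maxHeartbeats 4000000 in
theorem mat_ok : ∀ k : Fin 8,
    spec.sig (matMap gM (spec.combF (Pi.single k 1))) = mat 0 k ∧
    spec.sig (fun x => spec.combF (Pi.single k 1) (Golay.listFun Data.tInv x)) = mat 1 k ∧
    spec.sig (fun x => if maskW Data.wMask x = 1 then -spec.combF (Pi.single k 1) x
      else spec.combF (Pi.single k 1) x) = mat 2 k := by
  decide +kernel

/-- The short vector of a class. -/
def shortV (s : Fin 8 → ZMod 2) : GolayPt → ℤ :=
  spec.spread (Spec.vals (Data.short.getD (classIdx s) []))

set_option maxHeartbeats 4000000 in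
theorem short_ok : ∀ s, s ∉ classSet Data.omega →
    (sqNorm (shortV s) = 0 ∨ sqNorm (shortV s) = 32 ∨ sqNorm (shortV s) = 48) ∧
      leechChk (shortV s) = true ∧ Spec.congT (shortV s) (spec.combF s) = true := by
  simp only [mem_classSet]
  decide +kernel

set_option maxHeartbeats 4000000 in
theorem words_ok : (Finset.univ.filter fun u : Fin 8 → ZMod 2 => wordTest spec u).card ≤ 16 := by
  decide +kernel

set_option maxHeartbeats 4000000 in
theorem omega_card : (classSet Data.omega).card ≤ 135 := by
  decide +kernel

/-- The block with a given index. -/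
def blk (b : Fin 9) : Finset (Fin 8 → ZMod 2) := classSet (Data.blocks.getD b.val [])

/-- The permutations of the blocks. -/
def prm (i : Fin 3) : Equiv.Perm (Fin 9) :=
  permL (by norm_num) (Data.prms.getD i.val ([], [])).1 (Data.prms.getD i.val ([], [])).2

set_option maxHeartbeats 4000000 in
theorem blk_inj : Function.Injective blk := by
  unfold Function.Injective
  decide +kernel

set_option maxHeartbeats 4000000 in
theorem prm_ok : ∀ i b, (blk b).image (matAct (mat i)) = blk (prm i b) := by
  decide +kernel

/-- The product of the permutations along a word. -/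
def wordPerm (j : ℕ) : Equiv.Perm (Fin 9) :=
  ((Data.words.getD j []).map fun a => prm (Fin.ofNat 3 a)).prod

end Cfsg.Agent.Lib.MonsterType.TH
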