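import Mathlib.Init

/-!
Certificate data: fixed classes and blocks of an element of order 3.
-/

set_option autoImplicit false

namespace Cfsg.Agent.Lib.MonsterType.TH.Data

/-- The element. -/
def sigmaList : List Nat :=
  [1, 23, 3, 21, 13, 15, 14, 17, 18, 20, 4, 9, 7, 10, 22, 19, 8, 12, 16, 5, 11, 2, 6, 0]

/-- The orbit of each point. -/
def orbT : List Nat :=
  [0, 0, 1, 1, 2, 3, 4, 5, 6, 7, 2, 7, 5, 2, 4, 3, 6, 5, 6, 3, 7, 1, 4, 0]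

/-- Probes. -/
def probes : List (List Int) :=
  [[-3, -1, -1, 1, -1, -1, 1, 1],
   [-3, -1, -1, 1, 1, 1, -1, -1],
   [-3, -1, 1, -1, -1, 1, 1, -1],
   [-3, -1, 1, -1, 1, -1, -1, 1],
   [-3, 1, -1, -1, -1, 1, -1, 1],
   [-3, 1, -1, -1, 1, -1, 1, -1],
   [-3, 1, 1, 1, -1, -1, -1, -1],
   [-3, 1, 1, 1, 1, 1, 1, 1]]

/-- The dual basis. -/
def basis : List (List Int) :=
  [[-5, 1, 1, -1, 1, 1, -1, -1],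
   [-5, 1, 1, -1, -1, -1, 1, 1],
   [-5, 1, -1, 1, 1, -1, -1, 1],
   [-5, 1, -1, 1, -1, 1, 1, -1],
   [-5, -1, 1, 1, 1, -1, 1, -1],
   [-5, -1, 1, 1, -1, 1, -1, 1],
   [-5, -1, -1, -1, 1, 1, 1, 1],
   [-5, -1, -1, -1, -1, -1, -1, -1]]

/-- Classes of squared length 64. -/
def omega : List Nat :=
  [1, 2, 4, 8, 15, 16, 23, 27, 29, 30, 31, 32, 39, 43, 45, 46, 47, 51, 53, 54, 55, 57, 58, 59, 60, 61, 62, 64, 71, 75, 77, 78, 79, 83, 85, 86, 87, 89, 90, 91, 92, 93, 94, 99, 101, 102, 103, 105, 106, 107, 108, 109, 110, 113, 114, 115, 116, 117, 118, 120, 121, 122, 124, 128, 135, 139, 141, 142, 143, 147, 149, 150, 151, 153, 154, 155, 156, 157, 158, 163, 165, 166, 167, 169, 170, 171, 172, 173, 174, 177, 178, 179, 180, 181, 182, 184, 185, 186, 188, 195,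 197, 198, 199, 201, 202, 203, 204, 205, 206, 209, 210, 211, 212, 213, 214, 216, 217, 218, 220, 225, 226, 227, 228, 229, 230, 232, 233, 234, 236, 240, 241, 242, 244, 248, 255]

/-- Blocks of classes. -/
def blocks : List (List Nat) :=
  [[1, 54, 55, 78, 79, 120, 121, 154, 155, 172, 173, 212, 213, 226, 227],
   [2, 57, 59, 92, 94, 101, 103, 141, 143, 180, 182, 209, 211, 232, 234],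
   [4, 27, 31, 106, 110, 113, 117, 163, 167, 184, 188, 201, 205, 210, 214],
   [8, 39, 47, 83, 91, 116, 124, 149, 157, 178, 186, 198, 206, 225, 233],
   [15, 51, 60, 85, 90, 102, 105, 150, 153, 165, 170, 195, 204, 240, 255],
   [16, 46, 62, 77, 93, 99, 115, 135, 151, 169, 185, 202, 218, 228, 244],
   [23, 45, 58, 64, 87, 109, 122, 139, 156, 166, 177, 203, 220, 230, 241],
   [29, 32, 61, 75, 86, 107, 118, 142, 147, 174, 179, 197, 216, 229, 248],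
   [30, 43, 53, 71, 89, 108, 114, 128, 158, 171, 181, 199, 217, 236, 242]]

/-- Short representatives of the other classes. -/
def short : List (List Int) :=
  [[0, 0, 0, 0, 0, 0, 0, 0],
   [0, 0, 0, 0, 0, 0, 0, 0],
   [0, 0, 0, 0, 0, 0, 0, 0],
   [0, 0, 0, 0, -2, -2, 2, 2],
   [0, 0, 0, 0, 0, 0, 0, 0],
   [0, 0, -2, 2, 0, -2, 0, 2],
   [0, 0, -2, 2, 2, 0, -2, 0],
   [-1, -3, -1, 1, -1, 1, 1, -1],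
   [0, 0, 0, 0, 0, 0, 0, 0],
   [0, 0, -2, 2, -2, 0, 2, 0],
   [0, 0, -2, 2, 0, 2, 0, -2],
   [-1, -3, -1, 1, 1, -1, -1, 1],
   [0, 0, 0, 0, -2, 2, 2, -2],
   [-1, -3, 1, -1, -1, -1, 1, 1],
   [-1, -3, 1, -1, 1, 1, -1, -1],
   [0, 0, 0, 0, 0, 0, 0, 0],
   [0, 0, 0, 0, 0, 0, 0, 0],
   [0, -2, 0, 2, 0, -2, 2, 0],
   [0, -2, 0, 2, 2, 0, 0, -2],
   [-1, -1, -3, 1, -1, 1, -1, 1],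
   [0, -2, 2, 0, 0, 0, 2, -2],
   [-1, -1, -1, -1, -3, 1, 1, 1],
   [-1, -1, -1, -1, -1, 3, -1, -1],
   [0, 0, 0, 0, 0, 0, 0, 0],
   [0, -2, 2, 0, 2, -2, 0, 0],
   [-1, -1, -1, -1, -1, -1, -1, 3],
   [-1, -1, -1, -1, 1, 1, -3, 1],
   [0, 0, 0, 0, 0, 0, 0, 0],
   [-1, -1, 1, -3, -1, 1, -1, 1],
   [0, 0, 0, 0, 0, 0, 0, 0],
   [0, 0, 0, 0, 0, 0, 0, 0],
   [0, 0, 0, 0, 0, 0, 0, 0],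
   [0, 0, 0, 0, 0, 0, 0, 0],
   [0, -2, 0, 2, -2, 0, 0, 2],
   [0, -2, 0, 2, 0, 2, -2, 0],
   [-1, -1, -3, 1, 1, -1, 1, -1],
   [0, -2, 2, 0, -2, 2, 0, 0],
   [-1, -1, -1, -1, -1, -1, 3, -1],
   [-1, -1, -1, -1, 1, 1, 1, -3],
   [0, 0, 0, 0, 0, 0, 0, 0],
   [0, -2, 2, 0, 0, 0, -2, 2],
   [-1, -1, -1, -1, 1, -3, 1, 1],
   [-1, -1, -1, -1, 3, -1, -1, -1],
   [0, 0, 0, 0, 0, 0, 0, 0],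
   [-1, -1, 1, -3, 1, -1, 1, -1],
   [0, 0, 0, 0, 0, 0, 0, 0],
   [0, 0, 0, 0, 0, 0, 0, 0],
   [0, 0, 0, 0, 0, 0, 0, 0],
   [0, 0, 0, 0, -2, 2, -2, 2],
   [-1, 1, -3, -1, -1, -1, 1, 1],
   [-1, 1, -3, -1, 1, 1, -1, -1],
   [0, 0, 0, 0, 0, 0, 0, 0],
   [-1, 1, -1, -3, -1, 1, 1, -1],
   [0, 0, 0, 0, 0, 0, 0, 0],
   [0, 0, 0, 0, 0, 0, 0, 0],
   [0, 0, 0, 0, 0, 0, 0, 0],
   [-1, 1, -1, -3, 1, -1, -1, 1],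
   [0, 0, 0, 0, 0, 0, 0, 0],
   [0, 0, 0, 0, 0, 0, 0, 0],
   [0, 0, 0, 0, 0, 0, 0, 0],
   [0, 0, 0, 0, 0, 0, 0, 0],
   [0, 0, 0, 0, 0, 0, 0, 0],
   [0, 0, 0, 0, 0, 0, 0, 0],
   [-2, -2, -2, -2, 0, 0, 0, 0],
   [0, 0, 0, 0, 0, 0, 0, 0],
   [0, -2, -2, 0, 0, 0, 2, 2],
   [0, -2, -2, 0, 2, 2, 0, 0],
   [-1, -1, -1, 3, -1, -1, -1, -1],
   [0, -2, 0, -2, 0, 2, 2, 0],
   [-1, -1, 1, 1, -3, -1, 1, -1],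
   [-1, -1, 1, 1, -1, 1, -1, -3],
   [0, 0, 0, 0, 0, 0, 0, 0],
   [0, -2, 0, -2, 2, 0, 0, 2],
   [-1, -1, 1, 1, -1, -3, -1, 1],
   [-1, -1, 1, 1, 1, -1, -3, -1],
   [0, 0, 0, 0, 0, 0, 0, 0],
   [-1, -1, 3, -1, -1, -1, -1, -1],
   [0, 0, 0, 0, 0, 0, 0, 0],
   [0, 0, 0, 0, 0, 0, 0, 0],
   [0, 0, 0, 0, 0, 0, 0, 0],
   [0, 0, -2, -2, 0, 2, 0, 2],
   [-1, 1, -1, 1, -3, -1, -1, 1],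
   [-1, 1, -1, 1, -1, 1, -3, -1],
   [0, 0, 0, 0, 0, 0, 0, 0],
   [-1, 1, 1, -1, -3, 1, -1, -1],
   [0, 0, 0, 0, 0, 0, 0, 0],
   [0, 0, 0, 0, 0, 0, 0, 0],
   [0, 0, 0, 0, 0, 0, 0, 0],
   [-1, 1, 1, -1, -1, -1, -3, 1],
   [0, 0, 0, 0, 0, 0, 0, 0],
   [0, 0, 0, 0, 0, 0, 0, 0],
   [0, 0, 0, 0, 0, 0, 0, 0],
   [0, 0, 0, 0, 0, 0, 0, 0],
   [0, 0, 0, 0, 0, 0, 0, 0],
   [0, 0, 0, 0, 0, 0, 0, 0],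
   [-2, -2, 0, 0, -2, 0, -2, 0],
   [0, 0, -2, -2, 2, 0, 2, 0],
   [-1, 1, -1, 1, -1, -3, 1, -1],
   [-1, 1, -1, 1, 1, -1, -1, -3],
   [0, 0, 0, 0, 0, 0, 0, 0],
   [-1, 1, 1, -1, -1, -1, 1, -3],
   [0, 0, 0, 0, 0, 0, 0, 0],
   [0, 0, 0, 0, 0, 0, 0, 0],
   [0, 0, 0, 0, 0, 0, 0, 0],
   [-1, 1, 1, -1, 1, -3, -1, -1],
   [0, 0, 0, 0, 0, 0, 0, 0],
   [0, 0, 0, 0, 0, 0, 0, 0],
   [0, 0, 0, 0, 0, 0, 0, 0],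
   [0, 0, 0, 0, 0, 0, 0, 0],
   [0, 0, 0, 0, 0, 0, 0, 0],
   [0, 0, 0, 0, 0, 0, 0, 0],
   [-2, -2, 0, 0, 0, -2, 0, -2],
   [-1, 3, -1, -1, -1, -1, -1, -1],
   [0, 0, 0, 0, 0, 0, 0, 0],
   [0, 0, 0, 0, 0, 0, 0, 0],
   [0, 0, 0, 0, 0, 0, 0, 0],
   [0, 0, 0, 0, 0, 0, 0, 0],
   [0, 0, 0, 0, 0, 0, 0, 0],
   [0, 0, 0, 0, 0, 0, 0, 0],
   [-2, 0, -2, 0, -2, 0, 0, -2],
   [0, 0, 0, 0, 0, 0, 0, 0],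
   [0, 0, 0, 0, 0, 0, 0, 0],
   [0, 0, 0, 0, 0, 0, 0, 0],
   [-2, 0, -2, 0, 0, -2, -2, 0],
   [0, 0, 0, 0, 0, 0, 0, 0],
   [-2, 0, 0, -2, -2, -2, 0, 0],
   [-2, 0, 0, -2, 0, 0, -2, -2],
   [-3, 1, 1, 1, 1, 1, 1, 1],
   [0, 0, 0, 0, 0, 0, 0, 0],
   [0, -2, -2, 0, -2, -2, 0, 0],
   [0, -2, -2, 0, 0, 0, -2, -2],
   [-1, -1, -1, 3, 1, 1, 1, 1],
   [0, -2, 0, -2, -2, 0, 0, -2],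
   [-1, -1, 1, 1, -1, 1, 3, 1],
   [-1, -1, 1, 1, 1, 3, 1, -1],
   [0, 0, 0, 0, 0, 0, 0, 0],
   [0, -2, 0, -2, 0, -2, -2, 0],
   [-1, -1, 1, 1, 1, -1, 1, 3],
   [-1, -1, 1, 1, 3, 1, -1, 1],
   [0, 0, 0, 0, 0, 0, 0, 0],
   [-1, -1, 3, -1, 1, 1, 1, 1],
   [0, 0, 0, 0, 0, 0, 0, 0],
   [0, 0, 0, 0, 0, 0, 0, 0],
   [0, 0, 0, 0, 0, 0, 0, 0],
   [0, 0, -2, -2, -2, 0, -2, 0],
   [-1, 1, -1, 1, -1, 1, 1, 3],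
   [-1, 1, -1, 1, 1, 3, -1, 1],
   [0, 0, 0, 0, 0, 0, 0, 0],
   [-1, 1, 1, -1, -1, 3, 1, 1],
   [0, 0, 0, 0, 0, 0, 0, 0],
   [0, 0, 0, 0, 0, 0, 0, 0],
   [0, 0, 0, 0, 0, 0, 0, 0],
   [-1, 1, 1, -1, 1, 1, -1, 3],
   [0, 0, 0, 0, 0, 0, 0, 0],
   [0, 0, 0, 0, 0, 0, 0, 0],
   [0, 0, 0, 0, 0, 0, 0, 0],
   [0, 0, 0, 0, 0, 0, 0, 0],
   [0, 0, 0, 0, 0, 0, 0, 0],
   [0, 0, 0, 0, 0, 0, 0, 0],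
   [-2, -2, 0, 0, 0, 2, 0, 2],
   [0, 0, -2, -2, 0, -2, 0, -2],
   [-1, 1, -1, 1, 1, -1, 3, 1],
   [-1, 1, -1, 1, 3, 1, 1, -1],
   [0, 0, 0, 0, 0, 0, 0, 0],
   [-1, 1, 1, -1, 1, 1, 3, -1],
   [0, 0, 0, 0, 0, 0, 0, 0],
   [0, 0, 0, 0, 0, 0, 0, 0],
   [0, 0, 0, 0, 0, 0, 0, 0],
   [-1, 1, 1, -1, 3, -1, 1, 1],
   [0, 0, 0, 0, 0, 0, 0, 0],
   [0, 0, 0, 0, 0, 0, 0, 0],
   [0, 0, 0, 0, 0, 0, 0, 0],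
   [0, 0, 0, 0, 0, 0, 0, 0],
   [0, 0, 0, 0, 0, 0, 0, 0],
   [0, 0, 0, 0, 0, 0, 0, 0],
   [-2, -2, 0, 0, 2, 0, 2, 0],
   [-1, 3, -1, -1, 1, 1, 1, 1],
   [0, 0, 0, 0, 0, 0, 0, 0],
   [0, 0, 0, 0, 0, 0, 0, 0],
   [0, 0, 0, 0, 0, 0, 0, 0],
   [0, 0, 0, 0, 0, 0, 0, 0],
   [0, 0, 0, 0, 0, 0, 0, 0],
   [0, 0, 0, 0, 0, 0, 0, 0],
   [-2, 0, -2, 0, 0, 2, 2, 0],
   [0, 0, 0, 0, 0, 0, 0, 0],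
   [0, 0, 0, 0, 0, 0, 0, 0],
   [0, 0, 0, 0, 0, 0, 0, 0],
   [-2, 0, -2, 0, 2, 0, 0, 2],
   [0, 0, 0, 0, 0, 0, 0, 0],
   [-2, 0, 0, -2, 0, 0, 2, 2],
   [-2, 0, 0, -2, 2, 2, 0, 0],
   [-3, 1, 1, 1, -1, -1, -1, -1],
   [0, 0, 0, 0, -2, -2, -2, -2],
   [-1, 1, 1, 3, -1, -1, 1, 1],
   [-1, 1, 1, 3, 1, 1, -1, -1],
   [0, 0, 0, 0, 0, 0, 0, 0],
   [-1, 1, 3, 1, -1, 1, 1, -1],
   [0, 0, 0, 0, 0, 0, 0, 0],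
   [0, 0, 0, 0, 0, 0, 0, 0],
   [0, 0, 0, 0, 0, 0, 0, 0],
   [-1, 1, 3, 1, 1, -1, -1, 1],
   [0, 0, 0, 0, 0, 0, 0, 0],
   [0, 0, 0, 0, 0, 0, 0, 0],
   [0, 0, 0, 0, 0, 0, 0, 0],
   [0, 0, 0, 0, 0, 0, 0, 0],
   [0, 0, 0, 0, 0, 0, 0, 0],
   [0, 0, 0, 0, 0, 0, 0, 0],
   [-2, -2, 2, 2, 0, 0, 0, 0],
   [-1, 3, 1, 1, -1, 1, -1, 1],
   [0, 0, 0, 0, 0, 0, 0, 0],
   [0, 0, 0, 0, 0, 0, 0, 0],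
   [0, 0, 0, 0, 0, 0, 0, 0],
   [0, 0, 0, 0, 0, 0, 0, 0],
   [0, 0, 0, 0, 0, 0, 0, 0],
   [0, 0, 0, 0, 0, 0, 0, 0],
   [-2, 0, 0, 2, -2, 2, 0, 0],
   [0, 0, 0, 0, 0, 0, 0, 0],
   [0, 0, 0, 0, 0, 0, 0, 0],
   [0, 0, 0, 0, 0, 0, 0, 0],
   [-2, 0, 0, 2, 0, 0, -2, 2],
   [0, 0, 0, 0, 0, 0, 0, 0],
   [-2, 0, 2, 0, -2, 0, 0, 2],
   [-2, 0, 2, 0, 0, 2, -2, 0],
   [-3, 1, -1, -1, 1, -1, 1, -1],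
   [-1, 3, 1, 1, 1, -1, 1, -1],
   [0, 0, 0, 0, 0, 0, 0, 0],
   [0, 0, 0, 0, 0, 0, 0, 0],
   [0, 0, 0, 0, 0, 0, 0, 0],
   [0, 0, 0, 0, 0, 0, 0, 0],
   [0, 0, 0, 0, 0, 0, 0, 0],
   [0, 0, 0, 0, 0, 0, 0, 0],
   [-2, 0, 0, 2, 0, 0, 2, -2],
   [0, 0, 0, 0, 0, 0, 0, 0],
   [0, 0, 0, 0, 0, 0, 0, 0],
   [0, 0, 0, 0, 0, 0, 0, 0],
   [-2, 0, 0, 2, 2, -2, 0, 0],
   [0, 0, 0, 0, 0, 0, 0, 0],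
   [-2, 0, 2, 0, 0, -2, 2, 0],
   [-2, 0, 2, 0, 2, 0, 0, -2],
   [-3, 1, -1, -1, -1, 1, -1, 1],
   [0, 0, 0, 0, 0, 0, 0, 0],
   [0, 0, 0, 0, 0, 0, 0, 0],
   [0, 0, 0, 0, 0, 0, 0, 0],
   [-2, 2, -2, 2, 0, 0, 0, 0],
   [0, 0, 0, 0, 0, 0, 0, 0],
   [-2, 2, 0, 0, -2, 0, 2, 0],
   [-2, 2, 0, 0, 0, 2, 0, -2],
   [-3, -1, 1, -1, 1, -1, -1, 1],
   [0, 0, 0, 0, 0, 0, 0, 0],
   [-2, 2, 0, 0, 0, -2, 0, 2],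
   [-2, 2, 0, 0, 2, 0, -2, 0],
   [-3, -1, 1, -1, -1, 1, 1, -1],
   [-2, 2, 2, -2, 0, 0, 0, 0],
   [-3, -1, -1, 1, 1, 1, -1, -1],
   [-3, -1, -1, 1, -1, -1, 1, 1],
   [0, 0, 0, 0, 0, 0, 0, 0]]

/-- A matrix commuting with the element. -/
def gRows : List (List Int) :=
  [[-5, 3, -1, -1, -1, -1, 1, 1, 1, 1, -1, 1, 1, -1, 1, -1, 1, 1, 1, -1, 1, -1, 1, 3],
   [3, -5, -1, -1, -1, -1, 1, 1, 1, 1, -1, 1, 1, -1, 1, -1, 1, 1, 1, -1, 1, -1, 1, 3],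
   [1, 1, -3, 1, 1, 1, -1, -1, -1, 3, -3, -1, -1, 1, -1, -3, -1, -1, -1, 1, 3, 1, -1, 1],
   [1, 1, 1, -3, -3, 1, -1, -1, -1, -1, 1, 3, -1, 1, -1, 1, -1, -1, -1, -3, 3, 1, -1, 1],
   [1, 1, 1, -3, 1, 1, 3, -1, 3, -1, -3, -1, -1, -3, -1, 1, -1, -1, -1, 1, -1, 1, -1, 1],
   [-1, -1, -1, -1, -1, -1, 1, 1, -3, 1, -1, 1, 1, -1, 1, -1, -3, -3, 1, -1, -3, 3, 1, -1],
   [-1, -1, -1, -1, 3, -1, -3, 1, 1, -3, -1, 1, -3, -1, 1, -1, 1, -3, 1, -1, 1, -1, 1, -1],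
   [-1, -1, -1, -1, -1, -1, 1, 1, -3, -3, -1, 1, 1, -1, -3, -1, 1, 1, 1, 3, 1, -1, -3, -1],
   [1, 1, 1, 1, -3, -3, -1, 3, 3, -1, 1, -1, -1, 1, -1, -3, -1, -1, -1, 1, -1, 1, -1, 1],
   [1, 1, -3, 1, 1, 1, 3, 3, -1, -1, 1, -1, -1, 1, -1, 1, -1, -1, -1, -3, -1, -3, -1, 1],
   [1, 1, -3, 1, -3, 1, -1, -1, -1, -1, 1, -1, -1, -3, -1, 1, 3, -1, -1, 1, -1, 1, 3, 1],
   [1, 1, 1, -3, 1, 1, -1, -1, -1, -1, 1, -1, 3, 1, -1, -3, -1, -1, -1, 1, -1, -3, 3, 1],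
   [-1, -1, -1, -1, -1, -1, -3, 1, 1, 1, -1, -3, 1, -1, -3, 3, -3, 1, 1, -1, 1, -1, 1, -1],
   [1, 1, 1, 1, -3, 1, -1, -1, -1, -1, -3, -1, -1, 1, 3, 1, -1, -1, 3, 1, -1, -3, -1, 1],
   [-1, -1, -1, -1, -1, -1, 1, -3, 1, 1, -1, 1, -3, 3, -3, -1, 1, 1, 1, -1, -3, -1, 1, -1],
   [-1, -1, 3, -1, -1, -1, 1, 1, -3, 1, -1, -3, -3, -1, 1, -1, 1, 1, -3, -1, 1, -1, 1, -1],
   [1, 1, 1, 1, 1, -3, -1, -1, -1, -1, -3, -1, 3, 1, -1, 1, 3, -1, -1, -3, -1, 1, -1, 1],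
   [-1, -1, -1, -1, -1, 3, -3, 1, 1, 1, -1, 1, 1, -1, 1, -1, 1, 1, -3, -1, -3, -1, -3, -1],
   [1, 1, 1, 1, 1, 1, -1, -1, -1, -1, 1, -1, -1, -3, -1, -3, -1, 3, 3, -3, -1, 1, -1, 1],
   [-1, -1, -1, 3, -1, -1, 1, -3, 1, -3, -1, 1, 1, -1, 1, -1, -3, 1, -3, -1, 1, -1, 1, -1],
   [1, 1, -3, -3, 1, -3, -1, -1, -1, -1, 1, -1, -1, 1, 3, 1, -1, 3, -1, 1, -1, 1, -1, 1],
   [1, 1, 1, 1, 1, -3, -1, -1, -1, 3, 1, 3, -1, -3, -1, 1, -1, -1, -1, 1, -1, -3, -1, 1],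
   [-1, -1, -1, -1, -1, -1, 1, -3, 1, 1, 3, -3, 1, -1, 1, -1, 1, -3, 1, -1, 1, -1, -3, -1],
   [3, 3, -1, -1, -1, -1, 1, 1, 1, 1, -1, 1, 1, -1, 1, -1, 1, 1, 1, -1, 1, -1, 1, -5]]

/-- A permutation commuting with the element. -/
def tList : List Nat :=
  [2, 3, 12, 7, 4, 14, 8, 1, 19, 9, 10, 11, 0, 13, 18, 22, 15, 23, 5, 6, 20, 17, 16, 21]

/-- Its inverse. -/
def tInv : List Nat :=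
  [12, 7, 0, 1, 4, 18, 19, 3, 6, 9, 10, 11, 2, 13, 5, 16, 22, 21, 14, 8, 20, 23, 15, 17]

/-- A fixed code word. -/
def wMask : Nat :=
  6452444

/-- Images of the basis under the three generators. -/
def mats : List (List Nat) :=
  [[1, 255, 8, 16, 32, 2, 4, 128],
   [244, 47, 79, 242, 31, 248, 241, 143],
   [128, 64, 32, 16, 8, 4, 2, 1]]

/-- Images of the blocks and inverses. -/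
def prms : List (List Nat × List Nat) :=
  [([0, 4, 3, 5, 6, 7, 2, 1, 8], [0, 7, 6, 2, 1, 3, 4, 5, 8]),
   ([5, 3, 0, 8, 4, 2, 6, 7, 1], [2, 8, 5, 1, 4, 0, 6, 7, 3]),
   ([8, 6, 7, 5, 4, 3, 1, 2, 0], [8, 6, 7, 5, 4, 3, 1, 2, 0])]

/-- Words in the generators for standard generators of the block group. -/
def words : List (List Nat) :=
  [[1, 0, 0, 1, 1, 0, 0, 2, 1, 0, 0, 1, 0, 0],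
   [1, 0, 1, 1, 2, 1, 0, 0, 0, 1, 0, 1, 0],
   [0, 0, 1, 0, 1, 0, 0, 0, 0, 1, 0, 1, 0, 0],
   [2, 1, 2, 0, 1, 1, 0, 1, 0, 1, 2, 0, 1],
   [2, 1, 1, 0, 1, 2, 0, 1, 2, 1, 2, 0, 1, 0],
   [0, 2, 1, 0, 0, 1, 0, 0, 1, 0, 0, 1, 1, 0],
   [1, 0, 2, 1, 2, 0, 1, 1, 0, 2, 1, 2, 0]]

end Cfsg.Agent.Lib.MonsterType.TH.Data
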