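import Cfsg.Agent.Lib.MonsterType.TH.Cert
import Cfsg.Agent.Lib.MonsterType.OddType.Align

/-!
The centraliser of a non-central subgroup of order 3 of the joint centraliser, modulo it, is of
Thompson type.
-/

set_option autoImplicit false

namespace Cfsg.Agent.Lib.MonsterType.TH

open Cfsg
open Cfsg.Agent.Lib
open Cfsg.Agent.Lib.Leech
open Cfsg.Agent.Lib.MonsterType.OddType

local notation "mk₁" => QuotientGroup.mk' (Subgroup.center Co0)

theorem card_centralizer_subtype {l : List ℕ} {k : Equiv.Perm GolayPt} (hk : k ∈ M24) {τ : M24}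
    (hτ : k * Golay.toPerm l * k⁻¹ = (τ : Equiv.Perm GolayPt)) :
    Nat.card (Subgroup.centralizer ({τ} : Set M24)) = Nat.card (Golay.Classes.centM24 l) := by
  rw [← Golay.Classes.card_cent_conj hk, hτ]
  exact Nat.card_congr
    { toFun := fun c => ⟨c.1.1, c.1.2,
        congrArg Subtype.val (Subgroup.mem_centralizer_singleton_iff.1 c.2)⟩
      invFun := fun c => ⟨⟨c.1, c.2.1⟩, Subgroup.mem_centralizer_singleton_iff.2 (Subtype.ext c.2.2)⟩
      left_inv := fun _ => rfl
      right_inv := fun _ => rfl }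

theorem isTH {G : Type*} [Group G] [Finite G] {z : G} {R : Subgroup G} (D : MData z R) {g : G}
    (hgR : g * z * g⁻¹ ∈ R) (hne : g * z * g⁻¹ ≠ z) (Y : Subgroup G)
    (hY : Y ≤ Subgroup.centralizer ({z, g * z * g⁻¹} : Set G)) (hY3 : Nat.card Y = 3)
    (hnc : ∀ P : Sylow 3 ↥(Subgroup.centralizer ({z, g * z * g⁻¹} : Set G)),
      ¬ Y.subgroupOf (Subgroup.centralizer ({z, g * z * g⁻¹} : Set G)) ≤
        (Subgroup.center ↥(P : Subgroup ↥(Subgroup.centralizer ({z, g * z * g⁻¹} : Set G)))).map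
          (P : Subgroup ↥(Subgroup.centralizer ({z, g * z * g⁻¹} : Set G))).subtype)
    [hn : (Y.subgroupOf (Subgroup.centralizer (Y : Set G))).Normal] :
    IsOfThompsonType (↥(Subgroup.centralizer (Y : Set G)) ⧸
      Y.subgroupOf (Subgroup.centralizer (Y : Set G))) := by
  haveI : Fact (Nat.Prime 3) := ⟨Nat.prime_three⟩
  haveI := finite_co0
  have hX : Subgroup.centralizer ({z, g * z * g⁻¹} : Set G) =
      Subgroup.centralizer ({z} : Set G) ⊓ Subgroup.centralizer ({g * z * g⁻¹} : Set G) := by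
    ext x
    simp [Subgroup.mem_centralizer_iff, Subgroup.mem_inf]
  rw [hX] at hY hnc
  set X := Subgroup.centralizer ({z} : Set G) ⊓ Subgroup.centralizer ({g * z * g⁻¹} : Set G)
  obtain ⟨⟨x, hxY⟩, hxo⟩ := exists_prime_orderOf_dvd_card' (G := Y) 3 (by rw [hY3])
  replace hxo : orderOf x = 3 := by
    rw [← hxo]; exact orderOf_injective Y.subtype Y.subtype_injective ⟨x, hxY⟩
  have hYx : Y = Subgroup.zpowers x :=
    (Subgroup.eq_of_le_of_card_ge (Subgroup.zpowers_le.2 hxY) (by rw [hY3, Nat.card_zpowers, hxo])).symm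
  have hx3 : x ^ spec.p = 1 := by rw [show spec.p = 3 from rfl, ← hxo, pow_orderOf_eq_one]
  have h64 := mem_type64 D (setting_of_conj D.good hgR hne) (D.transport g).card
  obtain ⟨g₀, hl⟩ := exists_recoord D h64
  obtain ⟨χ, hχ, hspec⟩ := exists_chi (D.recoord g₀) hgR hne hl
  have hχ1 : ∀ c : X, χ c = 1 → (c : G) ∈ R := fun c e =>
    ((D.recoord g₀).π_eq_one (Subgroup.inclusion inf_le_left c)).1
      ((hspec c).symm.trans (congrArg Subtype.val e))
  set y : X := ⟨x, hY hxY⟩ with hy
  have hy3 : y ^ 3 = 1 := Subtype.ext (by simpa [hy, ← hxo] using pow_orderOf_eq_one x)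
  have hβ1 : (D.recoord g₀).π ⟨x, (hY hxY).1⟩ ≠ 1 := fun e => by
    have h1 : x = 1 := eq_one_of_pow_eq_one D (by norm_num : (3 : ℕ) ≠ 2)
      (((D.recoord g₀).π_eq_one _).1 e) (by rw [← hxo, pow_orderOf_eq_one])
    rw [h1, orderOf_one] at hxo
    norm_num at hxo
  set ω : X →* M24 := perm₁.comp χ with hω
  have hωs : Function.Surjective ω := perm₁_surjective.comp hχ
  have hker : IsPGroup 2 ω.ker := by
    rintro ⟨c, hc⟩
    have h2 : χ (c * c) = 1 := by rw [map_mul]; exact perm₁_ker_sq hc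
    have hR := hχ1 _ h2
    refine ⟨3, Subtype.ext (Subtype.ext ?_)⟩
    have hz := D.good.x_sq
    show (c : G) ^ 2 ^ 3 = 1
    rw [show (c : G) ^ 2 ^ 3 = ((c * c : X) : G) * ((c * c : X) : G) * (((c * c : X) : G) * ((c * c : X) : G)) by
      simp only [Subgroup.coe_mul, show (2 : ℕ) ^ 3 = 8 by norm_num, pow_succ, pow_zero, one_mul,
        mul_assoc]]
    rcases D.good.sq_cases hR with r | r <;> rw [r]
    · rw [one_mul]
    · exact hz
  have hω1 : ω y ≠ 1 := by
    intro e
    obtain ⟨f, hf⟩ := hker ⟨y, e⟩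
    have h1 : y ^ 2 ^ f = 1 := by simpa using congrArg Subtype.val hf
    have := pow_gcd_eq_one.2 ⟨hy3, h1⟩
    rw [show Nat.gcd 3 (2 ^ f) = 1 from Nat.Coprime.pow_right f (by norm_num), pow_one] at this
    exact hβ1 (by rw [show (⟨x, (hY hxY).1⟩ : ↥(Subgroup.centralizer ({z} : Set G))) = 1 from
      Subtype.ext (congrArg Subtype.val this : x = 1), map_one])
  have hωo : orderOf ((ω y : M24) : Equiv.Perm GolayPt) = 3 :=
    orderOf_eq_prime (by
      rw [← SubgroupClass.coe_pow, ← map_pow, hy3, map_one, OneMemClass.coe_one])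
      fun e => hω1 (Subtype.ext e)
  obtain ⟨r, hr, κ, hκ, hκτ⟩ := Golay.Classes.classify_three (ω y).2 hωo
  simp only [List.mem_cons, List.not_mem_nil, or_false] at hr
  rcases hr with rfl | rfl
  · exfalso
    obtain ⟨P, hyP, hPc⟩ := central_of_hom ω hωs hker hy3 (by
      have h := (Subgroup.centralizer ({ω y} : Set M24)).card_mul_index
      rw [card_centralizer_subtype hκ hκτ, Golay.Classes.card_centM24 Golay.Classes.cent3f6_ok,
        Golay.card_M24,
        show Golay.ClassData.wit3f6.length * Golay.ClassData.cent3f6.length = 1080 by decide +kernel] at h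
      omega)
    refine hnc P ?_
    intro a ha
    have ha' : (a : G) ∈ Subgroup.zpowers x := hYx ▸ ha
    obtain ⟨i, hi⟩ := Subgroup.mem_zpowers_iff.1 ha'
    have hai : a = y ^ i := Subtype.ext (by rw [← hi]; simp [hy])
    subst hai
    have hyc : (⟨y, hyP⟩ : (P : Subgroup X)) ∈ Subgroup.center (P : Subgroup X) :=
      Subgroup.mem_center_iff.2 fun c => Subtype.ext (hPc c c.2)
    exact zpow_mem (Subgroup.mem_map_of_mem (P : Subgroup X).subtype hyc) i
  · have hperm : spec.perm = Golay.toPerm Golay.ClassData.rep3f0 :=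
      congrArg Golay.toPerm sigma_eq
    set κ' : M24 := ⟨κ⁻¹, inv_mem hκ⟩
    obtain ⟨m₁, hm₁⟩ := perm₁_surjective κ'
    set k : cross₁ := toCross₁ ⟨_, monoCo_mem_crossStab spec.perm (Spec.perm_mem spec_ok) 0 (zero_mem _)⟩
    have hk : perm₁ k = ⟨spec.perm, Spec.perm_mem spec_ok⟩ := by
      rw [perm₁_spec, permPart_monoCo]
    have hσ : perm₁ (m₁ * χ y * m₁⁻¹) = ⟨spec.perm, Spec.perm_mem spec_ok⟩ := by
      rw [map_mul, map_mul, map_inv, hm₁]
      refine Subtype.ext ?_
      show κ⁻¹ * ((ω y : M24) : Equiv.Perm GolayPt) * κ⁻¹⁻¹ = spec.perm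
      rw [← hκτ, hperm]
      group
    set K : Subgroup cross₁ := (Subgroup.zpowers (perm₁ k)).comap perm₁
    have hordk : orderOf (perm₁ k) = 3 := by
      rw [hk]
      refine orderOf_eq_prime (Subtype.ext ?_) fun e => Spec.perm_ne_one spec_ok (congrArg Subtype.val e)
      exact Spec.perm_pow spec_ok
    have hcardK : Nat.card K = 2 ^ 11 * 3 := by
      let f : K →* M24 := perm₁.comp K.subtype
      have hr : f.range = Subgroup.zpowers (perm₁ k) := by
        rw [MonoidHom.range_comp, Subgroup.range_subtype,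
          Subgroup.map_comap_eq_self_of_surjective perm₁_surjective]
      have hkf : Nat.card f.ker = 2 ^ 11 := by
        rw [← card_perm₁_ker]
        exact Nat.card_congr
          { toFun := fun u => ⟨u.1.1, u.2⟩
            invFun := fun u => ⟨⟨u.1, by
              show perm₁ u.1 ∈ Subgroup.zpowers (perm₁ k)
              rw [show perm₁ u.1 = 1 from u.2]; exact one_mem _⟩, u.2⟩
            left_inv := fun _ => rfl
            right_inv := fun _ => rfl }
      rw [← Subgroup.card_mul_index f.ker, Subgroup.index_ker, hr, hkf, Nat.card_zpowers, hordk]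
    have hko : orderOf k = 3 := by
      refine orderOf_eq_prime (Subtype.ext ?_) fun e => Spec.mk_k0_ne_one spec_ok ?_
      · show (QuotientGroup.mk (Spec.k0 spec_ok) : Spor.Co1) ^ 3 = 1
        rw [← QuotientGroup.mk_pow]
        exact congrArg _ (Spec.k0_pow_p spec_ok)
      · exact congrArg Subtype.val e
    have hβo : orderOf (m₁ * χ y * m₁⁻¹) = 3 := by
      refine orderOf_eq_prime (by rw [conj_pow, ← map_pow, hy3, map_one, mul_one, mul_inv_cancel]) fun e => ?_
      rw [e, map_one] at hσ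
      exact Spec.perm_ne_one spec_ok (congrArg Subtype.val hσ).symm
    obtain ⟨m₂, -, i, hi⟩ := exists_conj_pow (p := 3) (H := K) (by
        rw [hcardK, Nat.factorization_mul (by norm_num) (by norm_num), Finsupp.add_apply,
          Nat.prime_three.factorization_self, Nat.factorization_eq_zero_of_not_dvd (by norm_num)])
      (show m₁ * χ y * m₁⁻¹ ∈ K by
        show perm₁ _ ∈ Subgroup.zpowers (perm₁ k)
        rw [hσ, ← hk]; exact Subgroup.mem_zpowers _)
      (show k ∈ K from Subgroup.mem_zpowers _) hβo hko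
    obtain ⟨m, hm⟩ := toCross₁_surjective (m₂ * m₁)
    have hconj : (QuotientGroup.mk (m : Co0) : Spor.Co1) * (D.recoord g₀).π ⟨x, (hY hxY).1⟩ *
        (QuotientGroup.mk (m : Co0))⁻¹ = QuotientGroup.mk (Spec.k0 spec_ok) ^ i := by
      have e := congrArg Subtype.val hi
      rw [show (QuotientGroup.mk (m : Co0) : Spor.Co1) = ((m₂ * m₁ : cross₁) : Spor.Co1) from
        congrArg Subtype.val hm,
        show (D.recoord g₀).π ⟨x, (hY hxY).1⟩ = (χ y : Spor.Co1) from (hspec y).symm]
      simp only [Subgroup.coe_mul, Subgroup.coe_inv, SubgroupClass.coe_pow, _root_.mul_inv_rev] at e ⊢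
      rw [show (QuotientGroup.mk (Spec.k0 spec_ok) : Spor.Co1) = (k : Spor.Co1) from rfl, ← e]
      group
    obtain ⟨D', b, hbp, hπ, hYb⟩ := exists_aligned spec_ok (D.recoord g₀) hYx (hY hxY).1 hx3 hβ1 hconj
    have hbs : (b : G) * (g * z * g⁻¹) = g * z * g⁻¹ * b :=
      Subgroup.mem_centralizer_singleton_iff.1 (hY (hYb ▸ Subgroup.mem_zpowers (b : G))).2
    subst hYb
    obtain ⟨z', Q, hQ, hS, he⟩ := exists_setting blocks D' hbp hπ no_two_core_alt_nine hgR hne hbs
    exact ⟨z', Q, hQ, hS, he⟩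

end Cfsg.Agent.Lib.MonsterType.TH
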